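import Mathlib
import Cfsg.Agent.ClassicalGeometry.OrthAutRoot
import Cfsg.Agent.AutOrth.Gen

/-!
The Siegel method for overgroups in orthogonal groups. `H` a subgroup of `O Q`, `u` a singular
vector: `Ts Q H u = {x ∈ u^⊥ | T Q u (c x) ∈ H for all c}` is a subspace, `h` maps `Ts Q H u` to
`Ts Q H (h u)` for `h ∈ H`, and if `Ts Q H e = e^⊥`, `Ts Q H f = f^⊥` for some hyperbolic pair
`e, f` then `E Q ≤ H`.
-/

set_option autoImplicit false

namespace Cfsg.Agent.H887.SiegelMethod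

open QuadraticMap Cfsg.Agent.LieClassical.OrthCore Cfsg.Agent.LieClassical.OrthTrans
  Cfsg.Agent.LieClassical.OrthSimple Cfsg.Agent.ClassicalGeometry.OrthAutBasic

variable {F V : Type*} [Field F] [AddCommGroup V] [Module F V] {Q : QuadraticForm F V}

/-- The subspace of all `x ∈ u^⊥` such that all Siegel transformations `T Q u (c x)` are in `H`. -/
def Ts (Q : QuadraticForm F V) (H : Subgroup (V ≃ₗ[F] V)) (u : V) : Submodule F V where
  carrier := {x | polar Q u x = 0 ∧ ∀ c : F, T Q u (c • x) ∈ H}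
  zero_mem' := by
    refine ⟨polar_zero_right Q u, fun c => ?_⟩
    rw [smul_zero, T_zero_right]
    exact H.one_mem
  add_mem' := by
    rintro x y ⟨hx, hx'⟩ ⟨hy, hy'⟩
    refine ⟨by rw [polar_add_right, hx, hy, add_zero], fun c => ?_⟩
    by_cases hu : Q u = 0
    · rw [smul_add, ← T_mul hu (by rw [polar_smul_right, hx, smul_zero])
        (by rw [polar_smul_right, hy, smul_zero])]
      exact H.mul_mem (hx' c) (hy' c)
    · rw [T_eq_one (fun h => hu h.1)]
      exact H.one_mem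
  smul_mem' := by
    rintro a x ⟨hx, hx'⟩
    refine ⟨by rw [polar_smul_right, hx, smul_zero], fun c => ?_⟩
    rw [smul_smul]
    exact hx' _

variable {H : Subgroup (V ≃ₗ[F] V)}

theorem mem_Ts {u x : V} : x ∈ Ts Q H u ↔ polar Q u x = 0 ∧ ∀ c : F, T Q u (c • x) ∈ H := Iff.rfl

theorem Ts_polar {u x : V} (h : x ∈ Ts Q H u) : polar Q u x = 0 := h.1

theorem Ts_mem {u x : V} (h : x ∈ Ts Q H u) : T Q u x ∈ H := by
  have := h.2 1
  rwa [one_smul] at this

/-- `u` itself is in `Ts Q H u`. -/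
theorem self_mem_Ts {u : V} (hu : Q u = 0) : u ∈ Ts Q H u := by
  refine ⟨polar_self_of_sing hu, fun c => ?_⟩
  have h := T_add_smul (Q := Q) hu (polar_zero_right Q u) c
  rw [zero_add, T_zero_right] at h
  rw [h]
  exact H.one_mem

theorem Ts_mono {H' : Subgroup (V ≃ₗ[F] V)} (h : H ≤ H') (u : V) : Ts Q H u ≤ Ts Q H' u :=
  fun _ hx => ⟨hx.1, fun c => h (hx.2 c)⟩

theorem map_mem_Ts {g : V ≃ₗ[F] V} (hg : g ∈ H) (hgO : g ∈ O Q) {u x : V} (hx : x ∈ Ts Q H u) :
    g x ∈ Ts Q H (g u) := by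
  refine ⟨by rw [polar_map hgO]; exact hx.1, fun c => ?_⟩
  rw [← map_smul, ← T_conj hgO]
  exact H.mul_mem (H.mul_mem hg (hx.2 c)) (H.inv_mem hg)

/-- `h` maps `Ts Q H u` onto `Ts Q H (h u)`. -/
theorem map_Ts {g : V ≃ₗ[F] V} (hg : g ∈ H) (hgO : g ∈ O Q) (u : V) :
    (Ts Q H u).map (g : V →ₗ[F] V) = Ts Q H (g u) := by
  ext x
  constructor
  · rintro ⟨y, hy, rfl⟩
    exact map_mem_Ts hg hgO hy
  · intro hx
    refine ⟨g⁻¹ x, ?_, LinearEquiv.apply_symm_apply g x⟩
    have h := map_mem_Ts (H.inv_mem hg) ((O Q).inv_mem hgO) hx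
    have e : g⁻¹ (g u) = u := LinearEquiv.symm_apply_apply g u
    rwa [e] at h

theorem mem_Ts_map_iff {g : V ≃ₗ[F] V} (hg : g ∈ H) (hgO : g ∈ O Q) {u x : V} :
    g x ∈ Ts Q H (g u) ↔ x ∈ Ts Q H u := by
  constructor
  · intro h
    have h' := map_mem_Ts (H.inv_mem hg) ((O Q).inv_mem hgO) h
    have e : g⁻¹ (g u) = u := LinearEquiv.symm_apply_apply g u
    have e' : g⁻¹ (g x) = x := LinearEquiv.symm_apply_apply g x
    rwa [e, e'] at h'
  · exact map_mem_Ts hg hgO

/-- An element of `H` fixing `u` preserves `Ts Q H u`. -/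
theorem fix_mem_Ts {g : V ≃ₗ[F] V} (hg : g ∈ H) (hgO : g ∈ O Q) {u x : V} (hgu : g u = u)
    (hx : x ∈ Ts Q H u) : g x ∈ Ts Q H u := by
  have h := map_mem_Ts hg hgO hx
  rwa [hgu] at h

/-- An element of `H` fixing the point `u` preserves `Ts Q H u`. -/
theorem Ts_smul {u : V} {a : F} (ha : a ≠ 0) (hu : Q u = 0) : Ts Q H (a • u) = Ts Q H u := by
  ext x
  constructor
  · rintro ⟨hx, hx'⟩
    have hux : polar Q u x = 0 := by
      rw [polar_smul_left, smul_eq_mul] at hx
      exact (mul_eq_zero.1 hx).resolve_left ha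
    refine ⟨hux, fun c => ?_⟩
    have h := hx' (a⁻¹ * c)
    rw [T_smul_left a hu (by rw [polar_smul_right, hux, smul_zero]), smul_smul, ← mul_assoc,
      mul_inv_cancel₀ ha, one_mul] at h
    exact h
  · rintro ⟨hx, hx'⟩
    refine ⟨by rw [polar_smul_left, hx, smul_zero], fun c => ?_⟩
    rw [T_smul_left a hu (by rw [polar_smul_right, hx, smul_zero]), smul_smul]
    exact hx' _

/-- For singular `x`: `x ∈ Ts u` iff `u ∈ Ts x`. -/
theorem mem_Ts_comm {u x : V} (hu : Q u = 0) (hx : Q x = 0) :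
    x ∈ Ts Q H u ↔ u ∈ Ts Q H x := by
  have key : ∀ {u x : V}, Q u = 0 → Q x = 0 → x ∈ Ts Q H u → u ∈ Ts Q H x := by
    intro u x hu hx h
    have hxu : polar Q x u = 0 := by rw [polar_comm]; exact h.1
    refine ⟨hxu, fun c => ?_⟩
    have hcx : Q (-c • x) = 0 := by rw [QuadraticMap.map_smul, hx, smul_zero]
    have h1 : polar Q u (-c • x) = 0 := by rw [polar_smul_right, h.1, smul_zero]
    have h2 := h.2 (-c)
    rw [T_swap hu hcx h1, T_smul_left (-c) hx (by rw [polar_neg_right, hxu, neg_zero])] at h2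
    rwa [smul_neg, neg_smul, neg_neg] at h2
  exact ⟨key hu hx, key hx hu⟩

/-- If `x, y ∈ u^⊥` singular and orthogonal and `x ∈ Ts u`, `x + y ∈ ...`. The Siegel element of
a sum: for `x, y` singular, orthogonal to each other and `z` orthogonal to both,
`T (x + y) z = T x z * T y z` when `z` is singular. -/
theorem add_left_mem_Ts {x y z : V} (hx : Q x = 0) (hy : Q y = 0) (hxy : polar Q x y = 0)
    (hz : Q z = 0) (h1 : z ∈ Ts Q H (x + y)) (h2 : z ∈ Ts Q H x) : z ∈ Ts Q H y := by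
  have hs : Q (x + y) = 0 := by rw [Q_add, hx, hy, hxy]; simp
  rw [mem_Ts_comm hs hz] at h1
  rw [mem_Ts_comm hx hz] at h2
  rw [mem_Ts_comm hy hz]
  have h3 := (Ts Q H z).sub_mem h1 h2
  rwa [add_sub_cancel_left] at h3

/-- **Siegel criterion.** If `H` contains the full Siegel groups of two opposite singular points,
then it contains `E Q`. -/
theorem E_le_of_full (hG : Good Q) {e f : V} (h : Hyp Q e f)
    (he : ∀ x, polar Q e x = 0 → T Q e x ∈ H) (hf : ∀ x, polar Q f x = 0 → T Q f x ∈ H) :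
    E Q ≤ H := by
  intro g hg
  have h1 : (⟨g, hg⟩ : ↥(E Q)) ∈ Cfsg.Agent.AutOrth.SemiSim.RS Q e h.left ⊔
      Cfsg.Agent.AutOrth.SemiSim.RS Q f h.right := by
    rw [Cfsg.Agent.AutOrth.Gen.sup_RS_eq_top hG h]
    exact Subgroup.mem_top _
  have h2 : Cfsg.Agent.AutOrth.SemiSim.RS Q e h.left ⊔ Cfsg.Agent.AutOrth.SemiSim.RS Q f h.right ≤
      H.comap (E Q).subtype := by
    refine sup_le ?_ ?_
    · rintro _ ⟨w, hw, rfl⟩
      have := he w hw
      rwa [T_eq h.left hw] at this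
    · rintro _ ⟨w, hw, rfl⟩
      have := hf w hw
      rwa [T_eq h.right hw] at this
  exact h2 h1

/-- Version with `Ts` and non-orthogonal singular vectors. -/
theorem E_le_of_Ts (hG : Good Q) {e f : V} (he0 : Q e = 0) (hf0 : Q f = 0)
    (hef : polar Q e f ≠ 0)
    (he : ∀ x, polar Q e x = 0 → x ∈ Ts Q H e) (hf : ∀ x, polar Q f x = 0 → x ∈ Ts Q H f) :
    E Q ≤ H := by
  have hyp : Hyp Q e ((polar Q e f)⁻¹ • f) := by
    refine ⟨he0, ?_, ?_⟩
    · rw [QuadraticMap.map_smul, hf0, smul_zero]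
    · rw [polar_smul_right, smul_eq_mul, inv_mul_cancel₀ hef]
  refine E_le_of_full hG hyp (fun x hx => Ts_mem (he x hx)) fun x hx => ?_
  have hx' : polar Q f x = 0 := by
    rw [polar_smul_left, smul_eq_mul] at hx
    exact (mul_eq_zero.1 hx).resolve_left (inv_ne_zero hef)
  have h := hf x hx'
  rw [← Ts_smul (inv_ne_zero hef) hf0] at h
  exact Ts_mem h

/-- The span of the `Ts` criterion: if `u^⊥` is contained in the span of vectors in `Ts u`. -/
theorem full_of_span {u : V} {S : Set V} (hS : ∀ x ∈ S, x ∈ Ts Q H u)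
    (hspan : ∀ x, polar Q u x = 0 → x ∈ Submodule.span F S) :
    ∀ x, polar Q u x = 0 → x ∈ Ts Q H u := by
  intro x hx
  have : Submodule.span F S ≤ Ts Q H u := Submodule.span_le.2 hS
  exact this (hspan x hx)

/-- The effect of a long root element: for `a, b` singular orthogonal,
`T a b v = v + B(a,v) b - B(b,v) a`. -/
theorem T_apply_root {a b : V} (ha : Q a = 0) (hb : Q b = 0) (hab : polar Q a b = 0) (v : V) :
    T Q a b v = v + polar Q a v • b - polar Q b v • a := by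
  rw [T_apply ha hab, hb]
  simp

/-- If the long root element `T a b` is in `H` and fixes the singular vector `u`, then
`B(a,x) b - B(b,x) a ∈ Ts u` for `x ∈ Ts u`. -/
theorem root_mem_Ts (hHO : H ≤ O Q) {u a b x : V} (ha : Q a = 0) (hb : Q b = 0)
    (hab : polar Q a b = 0) (hT : T Q a b ∈ H) (hfix : T Q a b u = u) (hx : x ∈ Ts Q H u) :
    polar Q a x • b - polar Q b x • a ∈ Ts Q H u := by
  have h1 := fix_mem_Ts hT (hHO hT) hfix hx
  rw [T_apply_root ha hb hab] at h1
  have h2 := (Ts Q H u).sub_mem h1 hx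
  have e : x + polar Q a x • b - polar Q b x • a - x = polar Q a x • b - polar Q b x • a := by abel
  rwa [e] at h2

end Cfsg.Agent.H887.SiegelMethod
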